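import Mathlib.LinearAlgebra.Eigenspace.Triangularizable
import Mathlib.LinearAlgebra.Determinant
import Mathlib.LinearAlgebra.Eigenspace.Minpoly
import Mathlib.LinearAlgebra.FiniteDimensional.Lemmas
import Mathlib.RingTheory.Artinian.Module
import Mathlib.GroupTheory.Solvable
import Mathlib.GroupTheory.Commutator.Basic
import Mathlib.RingTheory.Nilpotent.Basic
import Mathlib.Algebra.Polynomial.Roots
import Mathlib.FieldTheory.IsAlgClosed.Basic

/-!
Lie-Kolchin for groups with a class of "regular" functions in which finite-valued functions are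
constant.
-/

set_option autoImplicit false
universe u v w

namespace Groth.Agent.LieKolchinLib

open Module

variable {k : Type u} [Field k] {G : Type v} [Group G]

/-- A class of functions on a group behaving like the regular functions of a connected group. -/
structure RegSystem (k : Type u) (G : Type v) [Group G] where
  /-- The functions. -/
  F : Set (G → k)
  mul_left : ∀ f ∈ F, ∀ x, (fun g => f (x * g)) ∈ F
  mul_right : ∀ f ∈ F, ∀ x, (fun g => f (g * x)) ∈ F
  conj : ∀ f ∈ F, ∀ x, (fun g => f (g * x * g⁻¹)) ∈ F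
  conn : ∀ f ∈ F, (Set.range f).Finite → ∀ g, f g = f 1

variable (S : RegSystem k G)

/-- A subgroup is connected when finite-valued regular functions are constant on it. -/
def RegSystem.Conn (H : Subgroup G) : Prop :=
  ∀ f ∈ S.F, (f '' (H : Set G)).Finite → ∀ h ∈ H, f h = f 1

theorem conn_top : S.Conn ⊤ := fun f hf hfin g _ =>
  S.conn f hf (by simpa using hfin) g

theorem conn_commutator {H : Subgroup G} (hH : S.Conn H) : S.Conn ⁅H, H⁆ := by
  intro f hf hfin c hc
  have hle : ⁅H, H⁆ ≤ H := Subgroup.commutator_le_self H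
  suffices key : ∀ c ∈ ⁅H, H⁆, ∀ x ∈ ⁅H, H⁆, f (x * c) = f x by
    simpa using key c hc 1 (one_mem _)
  intro c hc
  rw [Subgroup.commutator_def] at hc
  induction hc using Subgroup.closure_induction with
  | mem c hc =>
    obtain ⟨a, ha, b, hb, rfl⟩ := hc
    intro x hx
    have h1 : (fun g => f (x * (g * b * g⁻¹ * b⁻¹))) ∈ S.F :=
      S.conj _ (S.mul_right _ (S.mul_left f hf x) b⁻¹) b
    have h2 := hH _ h1 (hfin.subset (by
      rintro _ ⟨g, hg, rfl⟩
      exact ⟨_, mul_mem hx (Subgroup.commutator_mem_commutator hg hb), rfl⟩)) a ha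
    simpa [commutatorElement_def] using h2
  | one => intro x _; rw [mul_one]
  | mul c d hc' hd' ihc ihd =>
    intro x hx
    rw [← mul_assoc, ihd _ (mul_mem hx (by rw [Subgroup.commutator_def]; exact hc')), ihc x hx]
  | inv c hc' ih =>
    intro x hx
    have h := ih (x * c⁻¹) (mul_mem hx (inv_mem (by rw [Subgroup.commutator_def]; exact hc')))
    rw [inv_mul_cancel_right] at h
    exact h.symm

theorem conn_derivedSeries (n : ℕ) : S.Conn (derivedSeries G n) := by
  induction n with
  | zero => exact conn_top S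
  | succ n ih => exact conn_commutator S ih

/-- A representation with regular matrix coefficients. -/
def RegSystem.Reg {V : Type w} [AddCommGroup V] [Module k V] (ρ : G →* Module.End k V) : Prop :=
  ∀ (φ : V →ₗ[k] k) (v : V), (fun g => φ (ρ g v)) ∈ S.F

/-- A common eigenvector. -/
def HasEigen {V : Type w} [AddCommGroup V] [Module k V] (ρ : G →* Module.End k V) (H : Subgroup G)
    (U : Submodule k V) : Prop :=
  ∃ v ∈ U, v ≠ 0 ∧ ∀ h ∈ H, ∃ c : k, ρ h v = c • v

/-- A stable subspace. -/
def Stable {V : Type w} [AddCommGroup V] [Module k V] (ρ : G →* Module.End k V) (H : Subgroup G)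
    (U : Submodule k V) : Prop :=
  ∀ h ∈ H, ∀ v ∈ U, ρ h v ∈ U

theorem exists_minimal {V : Type w} [AddCommGroup V] [Module k V] [Module.Finite k V]
    (ρ : G →* Module.End k V) (H : Subgroup G) {U : Submodule k V} (hU : Stable ρ H U) (h0 : U ≠ ⊥) :
    ∃ W ≤ U, Stable ρ H W ∧ W ≠ ⊥ ∧ ∀ W' ≤ W, Stable ρ H W' → W' ≠ ⊥ → W' = W := by
  obtain ⟨W, hW, hmin⟩ := WellFounded.has_min (wellFounded_lt (α := Submodule k V))
    {W | W ≤ U ∧ Stable ρ H W ∧ W ≠ ⊥} ⟨U, le_rfl, hU, h0⟩
  refine ⟨W, hW.1, hW.2.1, hW.2.2, fun W' h1 h2 h3 => ?_⟩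
  by_contra hne
  exact hmin W' ⟨h1.trans hW.1, h2, h3⟩ (lt_of_le_of_ne h1 hne)

section AlgClosed

variable [IsAlgClosed k]

/-- Common eigenvector for a commuting family. -/
theorem hasEigen_of_comm {V : Type w} [AddCommGroup V] [Module k V] [Module.Finite k V]
    (ρ : G →* Module.End k V) (H : Subgroup G) {W : Submodule k V} (hW : Stable ρ H W) (h0 : W ≠ ⊥)
    (hmin : ∀ W' ≤ W, Stable ρ H W' → W' ≠ ⊥ → W' = W)
    (hcomm : ∀ a ∈ H, ∀ b ∈ H, ∀ w ∈ W, ρ a (ρ b w) = ρ b (ρ a w)) :
    HasEigen ρ H W := by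
  obtain ⟨v, hv, hv0⟩ := Submodule.exists_mem_ne_zero_of_ne_bot h0
  refine ⟨v, hv, hv0, fun a ha => ?_⟩
  haveI : Nontrivial W := ⟨⟨⟨v, hv⟩, 0, by simpa [Subtype.ext_iff] using hv0⟩⟩
  obtain ⟨c, hc⟩ := Module.End.exists_eigenvalue ((ρ a).restrict (hW a ha))
  obtain ⟨w, hw⟩ := hc.exists_hasEigenvector
  refine ⟨c, ?_⟩
  let E : Submodule k V := W ⊓ LinearMap.ker (ρ a - c • (1 : Module.End k V))
  have hE : ∀ x, x ∈ E ↔ x ∈ W ∧ ρ a x = c • x := fun x => by simp [E, sub_eq_zero]
  have hEW : E = W := hmin E inf_le_left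
    (fun b hb x hx => by
      rw [hE] at hx ⊢
      exact ⟨hW b hb x hx.1, by rw [hcomm a ha b hb x hx.1, hx.2, map_smul]⟩)
    (by
      intro hbot
      have hmem : (w : V) ∈ E := by
        rw [hE]
        exact ⟨w.2, congrArg Subtype.val hw.apply_eq_smul⟩
      rw [hbot, Submodule.mem_bot] at hmem
      exact hw.2 (Subtype.ext hmem))
  rw [← hEW] at hv
  exact ((hE v).1 hv).2

theorem hasEigen {V : Type w} [AddCommGroup V] [Module k V] [Module.Finite k V]
    (ρ : G →* Module.End k V) (hρ : S.Reg ρ) {n : ℕ} (hn : derivedSeries G n = ⊥)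
    (i : ℕ) (U : Submodule k V) (hU : Stable ρ (derivedSeries G i) U) (h0 : U ≠ ⊥) :
    HasEigen ρ (derivedSeries G i) U := by
  induction hj : n - i generalizing i U with
  | zero =>
    have : derivedSeries G i = ⊥ :=
      le_bot_iff.1 (hn ▸ derivedSeries_antitone G (Nat.le_of_sub_eq_zero hj))
    obtain ⟨v, hv, hv0⟩ := Submodule.exists_mem_ne_zero_of_ne_bot h0
    refine ⟨v, hv, hv0, fun h hh => ⟨1, ?_⟩⟩
    rw [this, Subgroup.mem_bot] at hh
    simp [hh]
  | succ j ih =>
    set H := derivedSeries G i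
    have hH' : derivedSeries G (i + 1) = ⁅H, H⁆ := derivedSeries_succ G i
    have hle : ⁅H, H⁆ ≤ H := Subgroup.commutator_le_self H
    obtain ⟨W, hWU, hW, hW0, hmin⟩ := exists_minimal ρ H hU h0
    obtain ⟨v, hv, hv0, hev⟩ := ih (i + 1) W (fun h hh => hW h (hH'.trans_le hle hh)) hW0 (by omega)
    replace hev : ∀ h ∈ ⁅H, H⁆, ∃ a : k, ρ h v = a • v := fun h hh => hev h (hH' ▸ hh)
    choose χ hχ using hev
    obtain ⟨φ, hφ⟩ := Projective.exists_dual_ne_zero k hv0
    let φ' : V →ₗ[k] k := (φ v)⁻¹ • φ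
    have hφ' : φ' v = 1 := by simp [φ', hφ]
    have hcinv : ∀ g ∈ H, ∀ c ∈ ⁅H, H⁆, g * c * g⁻¹ ∈ ⁅H, H⁆ := by
      intro g hg c hc
      have h1 : g * c * g⁻¹ * c⁻¹ ∈ ⁅H, H⁆ := by
        rw [← commutatorElement_def]
        exact Subgroup.commutator_mem_commutator hg (hle hc)
      simpa using mul_mem h1 hc
    have hself : ∀ g : G, ∀ w : V, ρ g (ρ g⁻¹ w) = w := fun g w => by
      rw [← Module.End.mul_apply, ← map_mul, mul_inv_cancel, map_one, Module.End.one_apply]
    have hinv : ∀ g ∈ H, ∀ c (hc : c ∈ ⁅H, H⁆), φ' (ρ (g * c * g⁻¹) v) = φ' (ρ c v) := by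
      intro g hg c hc
      have h1 : (fun g => φ' (ρ (g * c * g⁻¹) v)) ∈ S.F := S.conj _ (hρ φ' v) c
      have hfin : ((fun g => φ' (ρ (g * c * g⁻¹) v)) '' (H : Set G)).Finite := by
        refine (Module.End.finite_hasEigenvalue (ρ c)).subset ?_
        rintro _ ⟨g, hg, rfl⟩
        have hmem := hcinv g hg c hc
        have h2 := hχ _ hmem
        show Module.End.HasEigenvalue (ρ c) (φ' (ρ (g * c * g⁻¹) v))
        rw [h2, map_smul, hφ', smul_eq_mul, mul_one]
        refine Module.End.hasEigenvalue_of_hasEigenvector (x := ρ g⁻¹ v) ⟨?_, fun h0 => hv0 ?_⟩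
        · rw [Module.End.mem_eigenspace_iff, ← map_smul, ← h2, ← Module.End.mul_apply,
            ← Module.End.mul_apply, ← map_mul, ← map_mul]
          congr 2
          group
        · rw [← hself g v, h0, map_zero]
      have h3 := conn_derivedSeries S i _ h1 hfin g hg
      simpa using h3
    have hχinv : ∀ g ∈ H, ∀ c (hc : c ∈ ⁅H, H⁆) (hm : g * c * g⁻¹ ∈ ⁅H, H⁆), χ _ hm = χ c hc := by
      intro g hg c hc hm
      have h := hinv g hg c hc
      rw [hχ _ hm, hχ _ hc, map_smul, map_smul, hφ'] at h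
      simpa using h
    let E : Submodule k V :=
      { carrier := {w | w ∈ W ∧ ∀ c (hc : c ∈ ⁅H, H⁆), ρ c w = χ c hc • w}
        add_mem' := fun ha hb => ⟨add_mem ha.1 hb.1, fun c hc => by
          rw [map_add, ha.2 c hc, hb.2 c hc, smul_add]⟩
        zero_mem' := ⟨zero_mem _, fun c hc => by simp⟩
        smul_mem' := fun a x hx => ⟨W.smul_mem a hx.1, fun c hc => by
          rw [map_smul, hx.2 c hc, smul_comm]⟩ }
    have hE : E = W := hmin E (fun x hx => hx.1) (fun g hg x hx => ⟨hW g hg x hx.1, fun c hc => by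
        have hm : g⁻¹ * c * g⁻¹⁻¹ ∈ ⁅H, H⁆ := hcinv g⁻¹ (inv_mem hg) c hc
        have h := hx.2 _ hm
        rw [hχinv g⁻¹ (inv_mem hg) c hc hm] at h
        rw [← Module.End.mul_apply, ← map_mul, show c * g = g * (g⁻¹ * c * g⁻¹⁻¹) by group, map_mul,
          Module.End.mul_apply, h, map_smul]⟩)
      (by
        intro hbot
        have : v ∈ E := ⟨hv, hχ⟩
        rw [hbot, Submodule.mem_bot] at this
        exact hv0 this)
    have hscal : ∀ c (hc : c ∈ ⁅H, H⁆), ∀ w ∈ W, ρ c w = χ c hc • w := fun c hc w hw => by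
      rw [← hE] at hw
      exact hw.2 c hc
    let r : H →* Module.End k W :=
      { toFun := fun g => (ρ g).restrict (hW g g.2)
        map_one' := by ext; simp
        map_mul' := fun a b => by ext; simp }
    let δ : H →* kˣ := (Units.map (LinearMap.det : Module.End k W →* k)).comp r.toHomUnits
    have hcH : ⁅H, H⁆ = (commutator H).map H.subtype := by
      rw [commutator_def, Subgroup.map_commutator, ← MonoidHom.range_eq_map, Subgroup.range_subtype]
    have hroot : ∀ c (hc : c ∈ ⁅H, H⁆), χ c hc ^ Module.finrank k W = 1 := by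
      intro c hc
      have hc' := hc
      rw [hcH] at hc'
      obtain ⟨d, hd, rfl⟩ := hc'
      have h1 : δ d = 1 := (Abelianization.commutator_subset_ker δ) hd
      have h2 : r d = χ _ hc • (1 : Module.End k W) :=
        LinearMap.ext fun w => Subtype.ext (hscal _ hc w.1 w.2)
      have h3 : LinearMap.det (r d) = 1 := congrArg Units.val h1
      rwa [h2, LinearMap.det_smul, map_one, mul_one] at h3
    haveI : Nontrivial W := Submodule.nontrivial_iff_ne_bot.2 hW0
    have hd0 : Module.finrank k W ≠ 0 := Module.finrank_pos.ne'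
    have htriv : ∀ c (hc : c ∈ ⁅H, H⁆), χ c hc = 1 := by
      have hfin : ((fun g => φ' (ρ g v)) '' ((⁅H, H⁆ : Subgroup G) : Set G)).Finite := by
        refine ((Polynomial.nthRoots (Module.finrank k W) (1 : k)).finite_toSet).subset ?_
        rintro _ ⟨c, hc, rfl⟩
        show φ' (ρ c v) ∈ _
        rw [hχ c hc, map_smul, hφ', smul_eq_mul, mul_one, Set.mem_setOf_eq]
        exact (Polynomial.mem_nthRoots (Nat.pos_of_ne_zero hd0)).2 (hroot c hc)
      intro c hc
      have h := (hH' ▸ conn_derivedSeries S (i + 1)) _ (hρ φ' v) hfin c hc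
      rw [hχ c hc, map_smul, hφ', map_one, Module.End.one_apply, hφ'] at h
      simpa using h
    obtain ⟨u, hu, hu0, hue⟩ := hasEigen_of_comm ρ H hW hW0 hmin fun a ha b hb w hw => by
      have hc : a * b * a⁻¹ * b⁻¹ ∈ ⁅H, H⁆ := by
        rw [← commutatorElement_def]; exact Subgroup.commutator_mem_commutator ha hb
      have h := hscal _ hc _ (hW b hb _ (hW a ha w hw))
      rw [htriv _ hc, one_smul, ← Module.End.mul_apply, ← Module.End.mul_apply, ← map_mul,
        ← map_mul, ← Module.End.mul_apply, ← map_mul] at h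
      rw [← Module.End.mul_apply, ← Module.End.mul_apply, ← map_mul, ← map_mul,
        ← h]
      congr 2
      group
    exact ⟨u, hWU hu, hu0, hue⟩

/-- In a solvable connected group every commutator acts unipotently. -/
theorem isNilpotent_sub_one [Group.IsSolvable G] {V : Type w} [AddCommGroup V] [Module k V]
    [Module.Finite k V] (ρ : G →* Module.End k V) (hρ : S.Reg ρ) {c : G} (hc : c ∈ commutator G) :
    IsNilpotent (ρ c - 1) := by
  obtain ⟨n, hn⟩ := Group.IsSolvable.solvable (G := G)
  induction hd : Module.finrank k V using Nat.strong_induction_on generalizing V with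
  | _ d ih =>
    rcases Nat.eq_zero_or_pos d with rfl | hpos
    · haveI := Module.finrank_zero_iff.1 hd
      exact ⟨1, LinearMap.ext fun x => Subsingleton.elim _ _⟩
    haveI : Nontrivial V := Module.finrank_pos_iff.1 (hd ▸ hpos)
    obtain ⟨v, -, hv0, hv⟩ := hasEigen S ρ hρ hn 0 ⊤ (fun _ _ _ _ => trivial) top_ne_bot
    have hv' : ∀ g : G, ∃ a : k, ρ g v = a • v := fun g =>
      hv g (by rw [derivedSeries_zero]; trivial)
    choose χ hχ using hv'
    have hfix : ρ c v = v := by
      have hone : χ 1 = 1 := smul_left_injective k hv0 (by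
        show χ 1 • v = (1 : k) • v
        rw [← hχ 1, map_one, Module.End.one_apply, one_smul])
      let ψ : G →* k :=
        { toFun := χ
          map_one' := hone
          map_mul' := fun a b => smul_left_injective k hv0 (by
            show χ (a * b) • v = (χ a * χ b) • v
            rw [← hχ, map_mul, Module.End.mul_apply, hχ, map_smul, hχ, smul_smul, mul_comm]) }
      have h1 : ψ.toHomUnits c = 1 := (Abelianization.commutator_subset_ker ψ.toHomUnits) hc
      have h2 : χ c = 1 := congrArg Units.val h1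
      rw [hχ, h2, one_smul]
    let P : Submodule k V := k ∙ v
    have hP : ∀ g, P ≤ P.comap (ρ g) := fun g => by
      rw [Submodule.span_singleton_le_iff_mem, Submodule.mem_comap, hχ]
      exact Submodule.smul_mem _ _ (Submodule.mem_span_singleton_self v)
    let σ : G →* Module.End k (V ⧸ P) :=
      { toFun := fun g => P.mapQ P (ρ g) (hP g)
        map_one' := by ext; simp
        map_mul' := fun a b => by ext; simp }
    have hσ : S.Reg σ := fun φ x => by
      obtain ⟨x, rfl⟩ := P.mkQ_surjective x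
      exact hρ (φ ∘ₗ P.mkQ) x
    obtain ⟨m, hm⟩ := ih _ (by
      have h1 := P.finrank_quotient_add_finrank
      have h2 : Module.finrank k P = 1 := finrank_span_singleton hv0
      omega) σ hσ rfl
    refine ⟨m + 1, LinearMap.ext fun x => ?_⟩
    have hcomm : ∀ (j : ℕ) (y : V), P.mkQ (((ρ c - 1) ^ j) y) = ((σ c - 1) ^ j) (P.mkQ y) := by
      intro j
      induction j with
      | zero => intro y; rfl
      | succ j ihj =>
        intro y
        rw [pow_succ, pow_succ, Module.End.mul_apply, Module.End.mul_apply, ihj]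
        rfl
    have hmem : ((ρ c - 1) ^ m) x ∈ P := by
      rw [← Submodule.Quotient.mk_eq_zero, ← Submodule.mkQ_apply, hcomm, hm]
      rfl
    obtain ⟨a, ha⟩ := Submodule.mem_span_singleton.1 hmem
    rw [pow_succ', Module.End.mul_apply, ← ha, map_smul, LinearMap.sub_apply,
      Module.End.one_apply, hfix, sub_self, smul_zero]
    rfl

end AlgClosed

end Groth.Agent.LieKolchinLib
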